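import Groth.Agent.GrSegre.K509.SegSide
import Groth.Agent.GrSegre.K962.CanSeg
import Mathlib.LinearAlgebra.Dimension.Constructions

/-!
# Dimensions in the Künneth formula for the local cohomology of a Segre product

For non-zero graded rings `R`, `S` defined over a field `k` and finitely generated graded modules `M`, `N` with
`H^q(M) = H^q(N) = 0` for `q = 0, 1` the pieces of `H^q(M # N)` have the dimensions predicted by the Künneth formula
(`finrank_Hcomp`).
-/

set_option autoImplicit false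
set_option linter.unusedSectionVars false
set_option linter.style.haveILetI false
set_option warn.classDefReducibility false
universe u
open scoped TensorProduct DirectSum
open K759.Gr K759.GrObj K962.Basic K962.Pieces K962.KM K962.Seg K962.KData K962.Wrap K962.Fld
open K963.Low K963.Crit

namespace K119.KunDim

variable {k : Type u} [Field k] {R S T : Type u} [CommRing R] [Algebra k R] [CommRing S] [Algebra k S]
  [CommRing T] [Algebra k T]
  {𝒜 : ℤ → Submodule k R} [GradedAlgebra 𝒜] {ℬ : ℤ → Submodule k S} [GradedAlgebra ℬ]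
  {𝒯 : ℤ → Submodule k T} [GradedAlgebra 𝒯] {ψ : T →ₐ[k] R ⊗[k] S}
  {mR : HomogeneousIdeal 𝒜} {mS : HomogeneousIdeal ℬ} {mT : HomogeneousIdeal 𝒯}
  {M N P : Type u} [AddCommGroup M] [Module R M] [Module k M] [IsScalarTower k R M]
  [AddCommGroup N] [Module S N] [Module k N] [IsScalarTower k S N]
  [AddCommGroup P] [Module T P] [Module k P] [IsScalarTower k T P]
  {τM τN τQ : Type u} [SetLike τM M] [AddSubgroupClass τM M] [SetLike τN N] [AddSubgroupClass τN N]
  [SetLike τQ P] [AddSubgroupClass τQ P]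
  {ℳ : ℤ → τM} [DirectSum.Decomposition ℳ] [SetLike.GradedSMul 𝒜 ℳ]
  {𝒩 : ℤ → τN} [DirectSum.Decomposition 𝒩] [SetLike.GradedSMul ℬ 𝒩]
  {𝒬 : ℤ → τQ} [DirectSum.Decomposition 𝒬] [SetLike.GradedSMul 𝒯 𝒬]
  {EM : GrLC.StarInjRes 𝒜 ℳ} {EN : GrLC.StarInjRes ℬ 𝒩} {EP : GrLC.StarInjRes 𝒯 𝒬}
  {A : ℕ → KMod.{u} 𝒜} {B : ℕ → KMod.{u} ℬ}

theorem finite_segrePiece {V W : Type u} [AddCommGroup V] [Module k V] [AddCommGroup W] [Module k W]
    (𝒱 : ℤ → Submodule k V) (𝒲 : ℤ → Submodule k W) (d : ℤ) (hV : Module.Finite k (𝒱 d))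
    (hW : Module.Finite k (𝒲 d)) : Module.Finite k (GrSeg.segrePiece k 𝒱 𝒲 d) :=
  Module.Finite.equiv (K962.Dims.pieceEquiv 𝒱 𝒲 d)

/-- the pieces of `H^{n+2}(M # N)` have the dimension predicted by the Künneth map `κ`. -/
theorem finrank_of_kunneth [Nontrivial T] (h0T : 𝒯 0 = Submodule.span k {(1 : T)}) {n : ℕ}
    (h : ∃ κ : EP.H mT (n + 2) →ₗ[T] (∀ p q : ℕ, TT ψ (A p).carrier (B q).carrier),
      Function.Injective κ ∧
      (∀ z p q, p + q ≠ n + 1 → κ z p q = 0) ∧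
      (∀ z i, z ∈ EP.Hcomp mT (n + 2) i → ∀ p q, toTT.symm (κ z p q) ∈
        GrSeg.segrePiece k (kg (A p)) (kg (B q)) i) ∧
      (∀ i (ω : ∀ p q : ℕ, TT ψ (A p).carrier (B q).carrier), (∀ p q, p + q ≠ n + 1 → ω p q = 0) →
        (∀ p q, toTT.symm (ω p q) ∈ GrSeg.segrePiece k (kg (A p)) (kg (B q)) i) →
        ∃ z ∈ EP.Hcomp mT (n + 2) i, κ z = ω)) (d : ℤ)
    (hA : ∀ p, Module.Finite k (kg (A p) d)) (hB : ∀ p, Module.Finite k (kg (B p) d)) :
    Module.finrank (GrLC.deg0 𝒯) (EP.Hcomp mT (n + 2) d) =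
      ∑ p ∈ Finset.antidiagonal (n + 1), Module.finrank k (kg (A p.1) d) * Module.finrank k (kg (B p.2) d) := by
  obtain ⟨κ, h1, h2, h3, h4⟩ := h
  let V : Type u := ∀ p : Finset.antidiagonal (n + 1), GrSeg.segrePiece k (kg (A p.1.1)) (kg (B p.1.2)) d
  let F : EP.Hcomp mT (n + 2) d →+ V :=
    { toFun := fun z p => ⟨toTT.symm (κ z.1 p.1.1 p.1.2), h3 z.1 d z.2 _ _⟩
      map_zero' := by
        funext p
        refine Subtype.ext ?_
        show toTT.symm (κ (0 : EP.H mT (n + 2)) p.1.1 p.1.2) = 0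
        rw [map_zero]
        exact map_zero _
      map_add' := fun x y => by
        funext p
        refine Subtype.ext ?_
        show toTT.symm (κ (x.1 + y.1) p.1.1 p.1.2) =
          toTT.symm (κ x.1 p.1.1 p.1.2) + toTT.symm (κ y.1 p.1.1 p.1.2)
        rw [map_add κ x.1 y.1]
        exact map_add toTT.symm (κ x.1 p.1.1 p.1.2) (κ y.1 p.1.1 p.1.2) }
  have hF : ∀ z p, ((F z p : GrSeg.segrePiece k (kg (A p.1.1)) (kg (B p.1.2)) d) :
      (A p.1.1).carrier ⊗[k] (B p.1.2).carrier) = toTT.symm (κ z.1 p.1.1 p.1.2) := fun z p => rfl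
  have hb : Function.Bijective F := by
    constructor
    · rw [injective_iff_map_eq_zero]
      intro z hz
      refine Subtype.ext (h1 ?_)
      show κ z.1 = κ 0
      rw [map_zero]
      funext p q
      by_cases hpq : p + q = n + 1
      · have h5 := congrArg Subtype.val (congrFun hz ⟨(p, q), Finset.mem_antidiagonal.2 hpq⟩)
        rw [hF] at h5
        exact toTT.symm.injective (h5.trans (map_zero _).symm)
      · exact h2 z.1 p q hpq
    · intro v
      obtain ⟨z, hz, hze⟩ := h4 d (fun p q => if hpq : p + q = n + 1 then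
          toTT ((v ⟨(p, q), Finset.mem_antidiagonal.2 hpq⟩).1) else 0)
        (fun p q hpq => by rw [dif_neg hpq]) (fun p q => by
          by_cases hpq : p + q = n + 1
          · rw [dif_pos hpq, LinearEquiv.symm_apply_apply]
            exact (v ⟨(p, q), Finset.mem_antidiagonal.2 hpq⟩).2
          · rw [dif_neg hpq, map_zero]; exact zero_mem _)
      refine ⟨⟨z, hz⟩, ?_⟩
      funext p
      refine Subtype.ext ?_
      obtain ⟨⟨p, q⟩, hpq⟩ := p
      rw [hF]
      show toTT.symm (κ z p q) = _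
      rw [hze]
      simp only
      rw [dif_pos (Finset.mem_antidiagonal.1 hpq), LinearEquiv.symm_apply_apply]
  have hsm : ∀ (c : k) (v : V), (AddEquiv.ofBijective F hb).symm (c • v) =
      toDeg0 𝒯 c • (AddEquiv.ofBijective F hb).symm v := by
    intro c v
    apply (AddEquiv.ofBijective F hb).injective
    rw [AddEquiv.apply_symm_apply]
    obtain ⟨z, rfl⟩ := (AddEquiv.ofBijective F hb).surjective v
    rw [AddEquiv.symm_apply_apply]
    funext p
    refine Subtype.ext ?_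
    show c • toTT.symm (κ z.1 p.1.1 p.1.2) = toTT.symm (κ (algebraMap k T c • z.1) p.1.1 p.1.2)
    rw [map_smul, ← map_smul]
    congr 1
    exact (algebraMap_smul T c (κ z.1 p.1.1 p.1.2)).symm
  rw [← K509.SegSide.finrank_eq_of_equiv h0T (AddEquiv.ofBijective F hb).symm hsm]
  have hfin : ∀ p : Finset.antidiagonal (n + 1),
      Module.Finite k (GrSeg.segrePiece k (kg (A p.1.1)) (kg (B p.1.2)) d) := fun p =>
    finite_segrePiece _ _ d (hA _) (hB _)
  refine (Module.finrank_pi_fintype k).trans ?_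
  rw [← Finset.sum_coe_sort (Finset.antidiagonal (n + 1))]
  exact Finset.sum_congr rfl fun p _ => K962.Dims.finrank_segrePiece _ _ d

section Main

variable [Nontrivial R] [Nontrivial S] [Algebra.FiniteType k R] [Algebra.FiniteType k S]
  [Module.Finite R M] [Module.Finite S N]

/-- **Dimensions of the local cohomology of a Segre product**: if `H^q(M) = H^q(N) = 0` for `q = 0, 1`, then
`dim H^q(M # N)_d = dim M_d · dim H^q(N)_d + dim H^q(M)_d · dim N_d + Σ_{i+j=q+1} dim H^i(M)_d · dim H^j(N)_d`. -/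
theorem finrank_Hcomp (h0R : 𝒜 0 = Submodule.span k {(1 : R)}) (h0S : ℬ 0 = Submodule.span k {(1 : S)})
    (hT : GrSeg.IsSegreRing 𝒜 ℬ 𝒯 ψ)
    (hmR : mR.toIdeal = Ideal.span (⋃ n ∈ Set.Ioi (0 : ℤ), (𝒜 n : Set R)))
    (hmS : mS.toIdeal = Ideal.span (⋃ n ∈ Set.Ioi (0 : ℤ), (ℬ n : Set S)))
    (hmT : mT.toIdeal = Ideal.span (⋃ n ∈ Set.Ioi (0 : ℤ), (𝒯 n : Set T)))
    {φ : P →ₗ[k] M ⊗[k] N} (hP : GrSeg.IsSegreMod ψ ℳ 𝒩 𝒬 φ)
    (EM : GrLC.StarInjRes 𝒜 ℳ) (EN : GrLC.StarInjRes ℬ 𝒩) (EP : GrLC.StarInjRes 𝒯 𝒬)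
    (hM : ∀ (q : ℕ) (d : ℤ), q ≤ 1 → EM.Hcomp mR q d = ⊥)
    (hN : ∀ (q : ℕ) (d : ℤ), q ≤ 1 → EN.Hcomp mS q d = ⊥) (q : ℕ) (d : ℤ) :
    Module.finrank (GrLC.deg0 𝒯) (EP.Hcomp mT q d) =
      Module.finrank (GrLC.deg0 𝒜) (GrLC.comp 𝒜 ℳ d) * Module.finrank (GrLC.deg0 ℬ) (EN.Hcomp mS q d) +
      Module.finrank (GrLC.deg0 𝒜) (EM.Hcomp mR q d) * Module.finrank (GrLC.deg0 ℬ) (GrLC.comp ℬ 𝒩 d) +
      (Finset.range (q + 2)).sum (fun i => Module.finrank (GrLC.deg0 𝒜) (EM.Hcomp mR i d) *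
        Module.finrank (GrLC.deg0 ℬ) (EN.Hcomp mS (q + 1 - i) d)) := by
  have hnT : Nontrivial T := K962.CanSeg.nontrivialT ψ
  have h0T := K962.CanSeg.h0T hT h0R h0S
  have nA : Nontrivial (GrLC.deg0 𝒜) := (isField_deg0 h0R).nontrivial
  have nB : Nontrivial (GrLC.deg0 ℬ) := (isField_deg0 h0S).nontrivial
  have nT : Nontrivial (GrLC.deg0 𝒯) := (isField_deg0 h0T).nontrivial
  have s0 := K963.Iface.subsingleton_of_Hcomp_eq_bot EM mR 0 (fun g => hM 0 g (by omega))
  have s1 := K963.Iface.subsingleton_of_Hcomp_eq_bot EM mR 1 (fun g => hM 1 g le_rfl)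
  have t0 := K963.Iface.subsingleton_of_Hcomp_eq_bot EN mS 0 (fun g => hN 0 g (by omega))
  have t1 := K963.Iface.subsingleton_of_Hcomp_eq_bot EN mS 1 (fun g => hN 1 g le_rfl)
  have e0 : Module.finrank (GrLC.deg0 𝒜) (EM.Hcomp mR 0 d) = 0 := by
    rw [hM 0 d (by omega), finrank_bot]
  have e1 : Module.finrank (GrLC.deg0 𝒜) (EM.Hcomp mR 1 d) = 0 := by
    rw [hM 1 d le_rfl, finrank_bot]
  have f0 : Module.finrank (GrLC.deg0 ℬ) (EN.Hcomp mS 0 d) = 0 := by
    rw [hN 0 d (by omega), finrank_bot]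
  have f1 : Module.finrank (GrLC.deg0 ℬ) (EN.Hcomp mS 1 d) = 0 := by
    rw [hN 1 d le_rfl, finrank_bot]
  obtain ⟨A, B, ε, η, hA, hB, z0, z1, zk⟩ := K963.Low.kunneth0 hT hmR hmS hmT hP EM EN EP
  match q with
  | 0 =>
    rw [K509.SegSide.low_zero hP hA hB s0 t0 z0 d, finrank_bot, e0, f0]
    simp [Finset.sum_range_succ, e0, e1]
  | 1 =>
    rw [K509.SegSide.low_one hP hA hB s1 t1 z1 d, finrank_bot, e1, f1]
    simp [Finset.sum_range_succ, e0, e1, f0]
  | n + 2 =>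
    rw [finrank_of_kunneth h0T (zk n) d (fun p => K509.SegSide.finite_kg h0R hmR hA s0 s1 p d)
      (fun p => K509.SegSide.finite_kg h0S hmS hB t0 t1 p d),
      K509.SegSide.sum_antidiagonal_eq (fun p => Module.finrank k (kg (A p) d))
        (fun p => Module.finrank k (kg (B p) d))
        (fun i => Module.finrank (GrLC.deg0 𝒜) (EM.Hcomp mR i d))
        (fun i => Module.finrank (GrLC.deg0 ℬ) (EN.Hcomp mS i d)) n
        (fun p => K509.SegSide.finrank_succ h0R hA p d) (fun p => K509.SegSide.finrank_succ h0S hB p d)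
        e0 e1 f0 f1, K509.SegSide.finrank_zero h0R hA s0 s1 d, K509.SegSide.finrank_zero h0S hB t0 t1 d]

end Main

end K119.KunDim
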